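/-
The centraliser of the central involution in characteristic two: its action on the moved plane.
-/
import Cfsg.Agent.Lib.MaxSub.HeisFiveU.Basic

set_option autoImplicit false
set_option linter.unusedSectionVars false
set_option linter.style.haveILetI false
set_option maxHeartbeats 1600000

namespace CfsgLib.MaxSub.HeisFiveTwo

open Matrix CfsgLib.UnitaryTransvection
open CfsgLib.MaxSub.HeisFive (Root Xm Ym Jm Wm Fz Fm En fcoef)

variable {F : Type*} [Field F]

local notation "M5" => Matrix (Fin 5) (Fin 5) F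
local notation "M2" => Matrix (Fin 2) (Fin 2) F
local notation "𝐞" => (En : Matrix (Fin 5) (Fin 2) F)

/-- A section of the transposed inclusion of the moved plane. -/
def Sc : Matrix (Fin 5) (Fin 2) F := !![0, 0; 1, 0; 0, 1; 0, 0; 0, 0]

/-- The action on the moved plane. -/
def Am (M : Matrix (Fin 5) (Fin 5) F) : Matrix (Fin 2) (Fin 2) F :=
  (En : Matrix (Fin 5) (Fin 2) F).transpose * M * (Sc : Matrix (Fin 5) (Fin 2) F)

/-- The central elements of the kernel. -/
def zel (X : Matrix (Fin 2) (Fin 2) F) : Matrix (Fin 5) (Fin 5) F :=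
  1 + (En : Matrix (Fin 5) (Fin 2) F) * X * (En : Matrix (Fin 5) (Fin 2) F).transpose

variable [CharP F 2]

local notation "𝐬" => (Sc : Matrix (Fin 5) (Fin 2) F)

theorem two0 : (2 : F) = 0 := CharTwo.two_eq_zero

theorem EnT_Sc : 𝐞ᵀ * 𝐬 = (1 : M2) := by
  ext i j
  simp only [Matrix.mul_apply, Matrix.transpose_apply, Fin.sum_univ_five]
  fin_cases i <;> fin_cases j <;> simp [En, Sc]

theorem ScT_En : 𝐬ᵀ * 𝐞 = (1 : M2) := by
  ext i j
  simp only [Matrix.mul_apply, Matrix.transpose_apply, Fin.sum_univ_five]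
  fin_cases i <;> fin_cases j <;> simp [En, Sc]

theorem EnT_En : 𝐞ᵀ * 𝐞 = (0 : M2) := by
  ext i j
  simp only [Matrix.mul_apply, Matrix.transpose_apply, Fin.sum_univ_five]
  fin_cases i <;> fin_cases j <;> simp [En, CharTwo.add_self_eq_zero]

theorem zel_one : zel (1 : M2) = Jm := by
  ext i j
  simp only [zel, Matrix.mul_one, Matrix.add_apply, Matrix.mul_apply, Matrix.transpose_apply, Fin.sum_univ_two]
  fin_cases i <;> fin_cases j <;>
    simp [En, Jm, CharTwo.add_self_eq_zero, CharTwo.neg_eq]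
  all_goals decide

theorem zel_zero : zel (0 : M2) = 1 := by simp [zel]

theorem zel_mul (X Y : M2) : zel X * zel Y = zel (X + Y) := by
  have e : 𝐞 * X * 𝐞ᵀ * (𝐞 * Y * 𝐞ᵀ) = (0 : M5) := by
    rw [show 𝐞 * X * 𝐞ᵀ * (𝐞 * Y * 𝐞ᵀ) = 𝐞 * X * (𝐞ᵀ * 𝐞) * (Y * 𝐞ᵀ) by simp only [Matrix.mul_assoc], EnT_En,
      Matrix.mul_zero, Matrix.zero_mul]
  rw [zel, zel, zel, Matrix.add_mul, Matrix.mul_add, Matrix.mul_add, e, Matrix.one_mul, Matrix.one_mul, Matrix.mul_one,
    Matrix.mul_add, Matrix.add_mul]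
  abel

theorem zel_inj {X Y : M2} (e : zel X = zel Y) : X = Y := by
  have h' := congrArg (fun M : M5 => 𝐬ᵀ * M * 𝐬) (add_left_cancel e)
  have k : ∀ Z : M2, 𝐬ᵀ * (𝐞 * Z * 𝐞ᵀ) * 𝐬 = Z := fun Z => by
    rw [show 𝐬ᵀ * (𝐞 * Z * 𝐞ᵀ) * 𝐬
        = (𝐬ᵀ * 𝐞) * Z * (𝐞ᵀ * 𝐬) by simp only [Matrix.mul_assoc],
      ScT_En, EnT_Sc, Matrix.one_mul, Matrix.mul_one]
  simpa only [k] using h'

theorem det_zel (X : M2) : (zel X).det = 1 := by
  rw [zel, Matrix.mul_assoc, Matrix.det_one_add_mul_comm, Matrix.mul_assoc, EnT_En, Matrix.mul_zero, add_zero,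
    Matrix.det_one]

section Comm

variable {M : Matrix (Fin 5) (Fin 5) F} (hM : (Jm : Matrix (Fin 5) (Fin 5) F) * M = M * Jm)
include hM

theorem comm_N : 𝐞 * 𝐞ᵀ * M = M * (𝐞 * 𝐞ᵀ) := by
  have e : 𝐞 * 𝐞ᵀ = (zel (1 : M2)) - 1 := by rw [zel, Matrix.mul_one, add_sub_cancel_left]
  rw [e, zel_one, sub_mul, mul_sub, hM, Matrix.one_mul, Matrix.mul_one]

theorem mul_En : M * 𝐞 = 𝐞 * Am M := by
  rw [Am, ← Matrix.mul_assoc, ← Matrix.mul_assoc, comm_N hM, Matrix.mul_assoc M,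
    Matrix.mul_assoc 𝐞, EnT_Sc, Matrix.mul_one]

theorem EnT_mul : 𝐞ᵀ * M = Am M * 𝐞ᵀ := by
  have e : 𝐞 * (𝐞ᵀ * M) = 𝐞 * (Am M * 𝐞ᵀ) := by
    rw [← Matrix.mul_assoc, comm_N hM, ← Matrix.mul_assoc, mul_En hM, Matrix.mul_assoc]
  have := congrArg (fun N => 𝐬ᵀ * N) e
  simpa only [← Matrix.mul_assoc, ScT_En, Matrix.one_mul] using this

theorem Am_mul (N : M5) : Am (M * N) = Am M * Am N := by
  rw [Am, ← Matrix.mul_assoc, EnT_mul hM, Matrix.mul_assoc (Am M), Matrix.mul_assoc (Am M)]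
  rfl

theorem zel_conj {X Y : M2} (e : Y * Am M = Am M * X) : M * zel X = zel Y * M := by
  rw [zel, zel, Matrix.mul_add, Matrix.add_mul, Matrix.mul_one, Matrix.one_mul]
  congr 1
  rw [← Matrix.mul_assoc, ← Matrix.mul_assoc, mul_En hM, Matrix.mul_assoc 𝐞 (Am M) X, ← e]
  simp only [Matrix.mul_assoc, EnT_mul hM]

end Comm

theorem Am_one : Am (1 : M5) = (1 : M2) := by rw [Am, Matrix.mul_one, EnT_Sc]

theorem Am_zel (X : M2) : Am (zel X) = 1 := by
  rw [Am, zel, Matrix.mul_add, Matrix.add_mul, Matrix.mul_one, EnT_Sc,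
    show 𝐞ᵀ * (𝐞 * X * 𝐞ᵀ) = 𝐞ᵀ * 𝐞 * (X * 𝐞ᵀ) by simp only [Matrix.mul_assoc], EnT_En, Matrix.zero_mul, Matrix.zero_mul,
    add_zero]

theorem zel_comm_J (X : M2) : (Jm : M5) * zel X = zel X * Jm := by
  rw [← zel_one, zel_mul, zel_mul, add_comm]

section Root

variable {ω : F} (h : Root ω)
include h

theorem PQ : (ω + ω ^ 4) + (ω ^ 2 + ω ^ 3) = 1 ∧ (ω + ω ^ 4) * (ω ^ 2 + ω ^ 3) = 1 := by
  have h5 := h.pow_five
  refine ⟨?_, ?_⟩
  · linear_combination h.eq - two0 (F := F)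
  · linear_combination h.eq - two0 (F := F) + (ω + ω ^ 2) * h5

theorem fcoef_one : fcoef ω = 1 := by
  have hd : (Fz ω : M5).det = 1 := by
    rcases mul_self_eq_one_iff.1 (HeisFive.Fz_det_sq h) with e | e
    · exact e
    · rw [e, CharTwo.neg_eq]
  rw [fcoef, hd, one_mul, show ω - ω ^ 2 - ω ^ 3 + ω ^ 4 = 1 by
    linear_combination (PQ h).1 - (ω ^ 2 + ω ^ 3) * two0 (F := F), inv_one]

theorem Am_Wm : Am (Wm ω : M5) = !![ω, 0; 0, ω ^ 4] := by
  ext i j
  simp only [Am, Matrix.mul_apply, Matrix.transpose_apply, Fin.sum_univ_five]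
  fin_cases i <;> fin_cases j <;> simp [Sc, En, Wm, Matrix.diagonal]

theorem Am_Fm : Am (Fm ω : M5) = !![ω + ω ^ 4, ω ^ 2 + ω ^ 3; ω ^ 2 + ω ^ 3, ω + ω ^ 4] := by
  have hc := fcoef_one h
  rw [fcoef] at hc
  have h5 := h.pow_five
  have eF : (Fm ω : M5) = Matrix.of fun i j : Fin 5 => ω ^ ((i : ℕ) * (j : ℕ)) := by
    conv_lhs => rw [Fm]; arg 2; rw [Fz]
    rw [smul_smul, hc, one_smul]
  rw [eF, Am]
  ext i j
  simp only [Matrix.mul_apply, Matrix.transpose_apply, Fin.sum_univ_five]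
  fin_cases i <;> fin_cases j <;>
    simp [Sc, En, CharTwo.neg_eq] <;> grind

end Root

section Unitary

variable [Fintype F] {q : ℕ} (hF : Fintype.card F = q ^ 2)
include hF

local notation "σ" => frob hF

theorem map_En : 𝐞.map σ = 𝐞 := by
  ext i j
  fin_cases i <;> fin_cases j <;> simp [En]

theorem map_Sc : 𝐬.map σ = 𝐬 := by
  ext i j
  fin_cases i <;> fin_cases j <;> simp [Sc]

theorem Am_unitary {M : M5} (hM : (Jm : M5) * M = M * Jm) (hg : Mᵀ * M.map σ = 1) : (Am M)ᵀ * (Am M).map σ = 1 := by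
  have e : (M * 𝐞)ᵀ * (M.map σ * 𝐬) = 1 := by
    rw [Matrix.transpose_mul, Matrix.mul_assoc, ← Matrix.mul_assoc Mᵀ, hg, Matrix.one_mul, EnT_Sc]
  rw [mul_En hM, Matrix.transpose_mul, Matrix.mul_assoc] at e
  rwa [Am, Matrix.map_mul, Matrix.map_mul, map_Sc hF, show (𝐞ᵀ).map σ = 𝐞ᵀ by rw [Matrix.transpose_map, map_En hF],
    Matrix.mul_assoc 𝐞ᵀ (M.map σ)]

/-- Elements acting trivially on the moved plane. -/
theorem kernel_shape {M : M5} (hM : (Jm : M5) * M = M * Jm) (hg : Mᵀ * M.map σ = 1) (hd : M.det = 1)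
    (hA : Am M = 1) :
    ∃ c : Fin 2 → F, M * M = zel (Matrix.of fun i j => c i * σ (c j)) ∧
      (c = 0 → ∃ Z : M2, M = zel Z ∧ Zᵀ = Z.map σ) := by
  obtain ⟨D, rfl⟩ : ∃ D, M = 1 + D := ⟨M - 1, by rw [add_sub_cancel]⟩
  have c0 : D * 𝐞 = 0 := by
    have := mul_En hM
    rwa [hA, Matrix.mul_one, Matrix.add_mul, Matrix.one_mul, add_eq_left] at this
  have r0 : 𝐞ᵀ * D = 0 := by
    have := EnT_mul hM
    rwa [hA, Matrix.one_mul, Matrix.mul_add, Matrix.mul_one, add_eq_left] at this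
  have col4 : ∀ i, D i 4 = D i 1 := fun i => by
    have e := congrFun (congrFun c0 i) 0
    simp [Matrix.mul_apply, Fin.sum_univ_five, En] at e
    linear_combination -e
  have col3 : ∀ i, D i 3 = D i 2 := fun i => by
    have e := congrFun (congrFun c0 i) 1
    simp [Matrix.mul_apply, Fin.sum_univ_five, En] at e
    linear_combination -e
  have row4 : ∀ j, D 4 j = D 1 j := fun j => by
    have e := congrFun (congrFun r0 0) j
    simp [Matrix.mul_apply, Fin.sum_univ_five, En] at e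
    linear_combination -e
  have row3 : ∀ j, D 3 j = D 2 j := fun j => by
    have e := congrFun (congrFun r0 1) j
    simp [Matrix.mul_apply, Fin.sum_univ_five, En] at e
    linear_combination -e
  set Ep3 : Matrix (Fin 5) (Fin 3) F := !![1, 0, 0; 0, 1, 0; 0, 0, 1; 0, 0, 1; 0, 1, 0] with hEp3
  set R : Matrix (Fin 3) (Fin 3) F :=
    !![D 0 0, D 0 1, D 0 2; D 1 0, D 1 1, D 1 2; D 2 0, D 2 1, D 2 2] with hR
  have hD : D = Ep3 * (R * Ep3ᵀ) := by
    ext i j
    simp only [Matrix.mul_apply, Matrix.transpose_apply, Fin.sum_univ_three]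
    fin_cases i <;> fin_cases j <;> simp [Ep3, R, col4, col3, row4, row3]
  have d00 : D 0 0 = 0 := by
    have e : (1 + D).det = 1 + D 0 0 := by
      rw [hD, Matrix.det_one_add_mul_comm, Matrix.mul_assoc,
        show Ep3ᵀ * Ep3 = diagonal ![1, 0, 0] by
          ext i j
          simp only [Matrix.mul_apply, Matrix.transpose_apply, Fin.sum_univ_five]
          fin_cases i <;> fin_cases j <;> simp [Ep3, CharTwo.add_self_eq_zero],
        det_fin_three, ← hD]
      simp [R, Matrix.diagonal, Matrix.vecHead, Matrix.vecTail]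
    rw [hd] at e
    linear_combination -e
  have h2 := two0 (F := F)
  have r1 : D 0 1 = σ (D 1 0) := by
    have e := congrFun (congrFun hg 0) 1
    simp [Matrix.mul_apply, Fin.sum_univ_five, col4, col3, row4, row3, d00, CharTwo.add_self_eq_zero] at e
    have e' : D 1 0 + σ (D 0 1) = 0 := by
      linear_combination e - (D 1 0 * σ (D 1 1) + D 2 0 * σ (D 2 1)) * h2
    have := congrArg σ e'
    rw [map_add, map_zero, frob_frob hF] at this
    linear_combination this - σ (D 1 0) * h2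
  have r2 : D 0 2 = σ (D 2 0) := by
    have e := congrFun (congrFun hg 0) 2
    simp [Matrix.mul_apply, Fin.sum_univ_five, col4, col3, row4, row3, d00, CharTwo.add_self_eq_zero] at e
    have e' : D 2 0 + σ (D 0 2) = 0 := by
      linear_combination e - (D 1 0 * σ (D 1 2) + D 2 0 * σ (D 2 2)) * h2
    have := congrArg σ e'
    rw [map_add, map_zero, frob_frob hF] at this
    linear_combination this - σ (D 2 0) * h2
  refine ⟨![D 1 0, D 2 0], ?_, fun hc => ?_⟩
  · rw [add_mul, mul_add, mul_add, Matrix.one_mul, Matrix.mul_one, Matrix.one_mul, zel]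
    have hDD : D + D = 0 := by ext i j; exact CharTwo.add_self_eq_zero _
    rw [show (1 : M5) + D + (D + D * D) = 1 + (D + D) + D * D by abel, hDD, add_zero]
    congr 1
    ext i j
    simp only [Matrix.mul_apply, Matrix.transpose_apply, Fin.sum_univ_five, Fin.sum_univ_two, Matrix.of_apply]
    fin_cases i <;> fin_cases j <;>
      simp [En, col4, col3, row4, row3, d00, r1, r2,
        CharTwo.add_self_eq_zero, CharTwo.neg_eq] <;> grind
  · have c1 : D 1 0 = 0 := by simpa using congrFun hc 0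
    have c2 : D 2 0 = 0 := by simpa using congrFun hc 1
    rw [c1, map_zero] at r1
    rw [c2, map_zero] at r2
    refine ⟨!![D 1 1, D 1 2; D 2 1, D 2 2], ?_, ?_⟩
    · rw [zel]
      congr 1
      ext i j
      simp only [Matrix.mul_apply, Matrix.transpose_apply, Fin.sum_univ_two]
      fin_cases i <;> fin_cases j <;>
        simp [En, col4, col3, row4, row3, d00, r1, r2, c1, c2, CharTwo.neg_eq]
    · have e11 := congrFun (congrFun hg 1) 1
      have e12 := congrFun (congrFun hg 1) 2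
      have e21 := congrFun (congrFun hg 2) 1
      have e22 := congrFun (congrFun hg 2) 2
      simp [Matrix.mul_apply, Fin.sum_univ_five, col4, col3, row4, row3, d00, r1, r2, c1, c2] at e11 e12 e21 e22
      ext i j
      fin_cases i <;> fin_cases j <;> simp
      · linear_combination e11 - (D 1 1 * σ (D 1 1) + D 2 1 * σ (D 2 1) + σ (D 1 1)) * h2
      · linear_combination e12 - (D 1 1 * σ (D 1 2) + D 2 1 * σ (D 2 2) + σ (D 1 2)) * h2
      · linear_combination e21 - (D 1 2 * σ (D 1 1) + D 2 2 * σ (D 2 1) + σ (D 2 1)) * h2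
      · linear_combination e22 - (D 1 2 * σ (D 1 2) + D 2 2 * σ (D 2 2) + σ (D 2 2)) * h2

end Unitary

end CfsgLib.MaxSub.HeisFiveTwo
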