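/-
The elements of the overgroup fixing the moved plane, and the isolation of the involution in the small case.
-/
import Cfsg.Agent.Lib.MaxSub.HeisFiveTwo.Basic
import Cfsg.Agent.Lib.MaxSub.HeisFive.Ctx

set_option autoImplicit false
set_option linter.unusedSectionVars false
set_option linter.style.haveILetI false
set_option maxHeartbeats 1600000

namespace CfsgLib.MaxSub.HeisFiveTwo

open Matrix CfsgLib.UnitaryTransvection
open CfsgLib.MaxSub.HeisFive (Root Xm Ym Jm Wm Fm En Over cenJ Jg mem_cenJ)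

variable {F : Type*} [Field F]

local notation "M5" => Matrix (Fin 5) (Fin 5) F
local notation "M2" => Matrix (Fin 2) (Fin 2) F
local notation "G5" => GL (Fin 5) F

/-- The parameters of the central elements lying in a group. -/
def SS (H : Subgroup (GL (Fin 5) F)) (X : Matrix (Fin 2) (Fin 2) F) : Prop :=
  ∃ g ∈ H, ((g : GL (Fin 5) F) : Matrix (Fin 5) (Fin 5) F) = zel X

/-- An anti-diagonal hermitian matrix. -/
def anti (s : F →+* F) (γ : F) : Matrix (Fin 2) (Fin 2) F := !![0, γ; s γ, 0]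

variable [CharP F 2] [Fintype F] {hF : Fintype.card F = 4 ^ 2} {ω : F} {H : Subgroup (GL (Fin 5) F)}

local notation "σ" => frob hF

section Small

variable (h : Root ω)
include h

theorem sigma_omega : σ ω = ω ^ 4 := frob_apply hF ω

theorem sigma_P : σ (ω + ω ^ 4) = ω + ω ^ 4 := by
  rw [map_add, map_pow, sigma_omega h, ← pow_mul, h.pow_mod 16]
  ring

theorem sigma_Q : σ (ω ^ 2 + ω ^ 3) = ω ^ 2 + ω ^ 3 := by
  rw [map_add, map_pow, map_pow, sigma_omega h, ← pow_mul, ← pow_mul, h.pow_mod 8, h.pow_mod 12]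
  ring

theorem one_add_omega_ne : (1 : F) + ω ^ 2 ≠ 0 := by
  intro e
  have h2 := two0 (F := F)
  have h5 := h.pow_five
  have := h.eq
  grind

/-- The powers of the root span the field. -/
theorem span_top (hF' : Fintype.card F = 4 ^ 2) (A : Set F) (h0 : (0 : F) ∈ A)
    (hadd : ∀ a ∈ A, ∀ b ∈ A, a + b ∈ A) (hpow : ∀ i : ℕ, ω ^ i ∈ A) (z : F) : z ∈ A := by
  classical
  let m : (Fin 4 → Bool) → F := fun b =>
    (if b 0 then 1 else 0) + (if b 1 then ω else 0) + (if b 2 then ω ^ 2 else 0) + (if b 3 then ω ^ 3 else 0)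
  have hker : ∀ b, m b = 0 → b = fun _ => false := by
    intro b e
    have h2 := two0 (F := F)
    have h5 := h.pow_five
    have he := h.eq
    simp only [m] at e
    funext i
    rcases hb0 : b 0 <;> rcases hb1 : b 1 <;> rcases hb2 : b 2 <;> rcases hb3 : b 3 <;>
      simp only [hb0, hb1, hb2, hb3, Bool.false_eq_true, if_false, if_true] at e <;>
      first
        | (fin_cases i <;> assumption)
        | (exfalso; grind)
  have aux : ∀ (x y : Bool) (r : F),
      (if xor x y then r else 0) = (if x then r else 0) + (if y then r else 0) := fun x y r => by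
    cases x <;> cases y <;> simp [CharTwo.add_self_eq_zero]
  have hm : ∀ b c, m b + m c = m fun i => xor (b i) (c i) := by
    intro b c
    simp only [m, aux]
    abel
  have hinj : Function.Injective m := fun b c e => by
    have := hker (fun i => xor (b i) (c i)) (by rw [← hm, e, CharTwo.add_self_eq_zero])
    funext i
    have := congrFun this i
    revert this
    cases b i <;> cases c i <;> simp
  obtain ⟨b, rfl⟩ := ((Fintype.bijective_iff_injective_and_card m).2 ⟨hinj, by simp [hF']⟩).2 z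
  refine hadd _ (hadd _ (hadd _ ?_ _ ?_) _ ?_) _ ?_ <;> split
  all_goals first
    | exact h0
    | (simpa using hpow 0)
    | (simpa using hpow 1)
    | exact hpow _

theorem exists_pow_of_norm {t : F} (e : t * σ t = 1) : ∃ i, t = ω ^ i := by
  have e5 : t ^ 5 = 1 := by rw [frob_apply] at e; rw [← e]; ring
  have hprim : IsPrimitiveRoot ω 5 := by
    haveI : Fact (Nat.Prime 5) := ⟨Nat.prime_five⟩
    have ho : orderOf ω = 5 := orderOf_eq_prime h.pow_five fun e1 => by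
      have := h.eq
      have h2 := two0 (F := F)
      subst e1
      grind
    exact ho ▸ IsPrimitiveRoot.orderOf ω
  obtain ⟨i, -, hi⟩ := hprim.eq_pow_of_pow_eq_one e5
  exact ⟨i, hi.symm⟩

theorem fixed_four {a : F} (ha : σ a = a) : a = 0 ∨ a = 1 ∨ a = ω + ω ^ 4 ∨ a = ω ^ 2 + ω ^ 3 := by
  rw [frob_apply] at ha
  have e : a * (a + 1) * ((a + (ω + ω ^ 4)) * (a + (ω ^ 2 + ω ^ 3))) = 0 := by
    have h1 := (PQ h).1
    have h2' := (PQ h).2
    linear_combination ha + (a ^ 3 + a ^ 2) * h1 + (a ^ 2 + a) * h2' + (a + a ^ 2 + a ^ 3) * two0 (F := F)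
  rcases mul_eq_zero.1 e with e | e <;> rcases mul_eq_zero.1 e with e | e
  · exact Or.inl e
  · exact Or.inr (Or.inl (CharTwo.add_eq_zero.1 e))
  · exact Or.inr (Or.inr (Or.inl (CharTwo.add_eq_zero.1 e)))
  · exact Or.inr (Or.inr (Or.inr (CharTwo.add_eq_zero.1 e)))

end Small

section Group

omit [CharP F 2] [Fintype F] in
theorem mem_W (O : Over ω H) : ∃ g : G5, g ∈ cenJ H ∧ (g : M5) = Wm ω := by
  obtain ⟨g, hg, e⟩ := O.hW
  exact ⟨g, mem_cenJ.2 ⟨hg, by rw [e]; exact HeisFive.Jm_Wm O.root⟩, e⟩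

omit [CharP F 2] [Fintype F] in
theorem mem_F (O : Over ω H) : ∃ g : G5, g ∈ cenJ H ∧ (g : M5) = Fm ω := by
  obtain ⟨g, hg, e⟩ := O.hF
  exact ⟨g, mem_cenJ.2 ⟨hg, by rw [e]; exact HeisFive.Fm_comm O.root⟩, e⟩

variable (O : Over ω H) (hHG : H ≤ Cfsg.GU 5 F 4 ⊓ Cfsg.Geo.specialLinear (Fin 5) F)
include O hHG

theorem gram_mem {g : G5} (hg : g ∈ H) : (g : M5)ᵀ * (g : M5).map σ = 1 :=
  (HeisFiveU.mem_GU_iff hF g).1 (hHG hg).1

theorem ss_zero : SS H (0 : M2) := ⟨1, one_mem H, by rw [zel_zero]; rfl⟩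

theorem ss_one : SS H (1 : M2) := ⟨Jg, O.Jg_mem, by rw [zel_one]; rfl⟩

theorem ss_add {X Y : M2} (hX : SS H X) (hY : SS H Y) : SS H (X + Y) := by
  obtain ⟨g, hg, eg⟩ := hX
  obtain ⟨k, hk, ek⟩ := hY
  exact ⟨g * k, mul_mem hg hk, by rw [Units.val_mul, eg, ek, zel_mul]⟩

theorem ss_herm {X : M2} (hX : SS H X) : Xᵀ = X.map σ := by
  obtain ⟨g, hg, eg⟩ := hX
  have e := gram_mem (hF := hF) O hHG hg
  rw [eg, zel, Matrix.transpose_add, Matrix.transpose_one, Matrix.transpose_mul, Matrix.transpose_mul,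
    Matrix.transpose_transpose, Matrix.map_add _ (map_add _), Matrix.map_one _ (map_zero _) (map_one _),
    Matrix.map_mul, Matrix.map_mul, map_En hF, Matrix.transpose_map, map_En hF, ← Matrix.mul_assoc,
    show (1 : M5) + _ = zel Xᵀ from rfl, show (1 : M5) + _ = zel (X.map σ) from rfl, zel_mul, ← zel_zero] at e
  have e' := zel_inj e
  ext i j
  exact CharTwo.add_eq_zero.1 (congrFun (congrFun e' i) j)

theorem ss_conj {g : G5} (hg : g ∈ cenJ H) {X Y : M2} (hX : SS H X) (e : Y * Am (g : M5) = Am (g : M5) * X) :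
    SS H Y := by
  obtain ⟨k, hk, ek⟩ := hX
  refine ⟨g * k * g⁻¹, mul_mem (mul_mem (mem_cenJ.1 hg).1 hk) (inv_mem (mem_cenJ.1 hg).1), ?_⟩
  rw [Units.val_mul, Units.val_mul, ek, zel_conj (mem_cenJ.1 hg).2 e, Matrix.mul_assoc, Units.mul_inv, Matrix.mul_one]

theorem ss_W {X : M2} (hX : SS H X) : SS H !![X 0 0, ω ^ 2 * X 0 1; ω ^ 3 * X 1 0, X 1 1] := by
  obtain ⟨w, hw, ew⟩ := mem_W O
  refine ss_conj O hHG hw hX ?_
  rw [ew, Am_Wm O.root]
  have h5 := O.root.pow_five
  ext i j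
  fin_cases i <;> fin_cases j <;> simp [Matrix.mul_apply, Fin.sum_univ_two] <;> grind

theorem ss_F {X : M2} (hX : SS H X) :
    SS H (!![ω + ω ^ 4, ω ^ 2 + ω ^ 3; ω ^ 2 + ω ^ 3, ω + ω ^ 4] * X *
      !![ω + ω ^ 4, ω ^ 2 + ω ^ 3; ω ^ 2 + ω ^ 3, ω + ω ^ 4]) := by
  obtain ⟨f, hf, ef⟩ := mem_F O
  refine ss_conj O hHG hf hX ?_
  rw [ef, Am_Fm O.root, Matrix.mul_assoc]
  have h1 := (PQ O.root).1
  have h2 := two0 (F := F)
  have e : (!![ω + ω ^ 4, ω ^ 2 + ω ^ 3; ω ^ 2 + ω ^ 3, ω + ω ^ 4] : M2) *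
      !![ω + ω ^ 4, ω ^ 2 + ω ^ 3; ω ^ 2 + ω ^ 3, ω + ω ^ 4] = 1 := by
    ext i j
    fin_cases i <;> fin_cases j <;> simp [Matrix.mul_apply, Fin.sum_univ_two] <;> grind
  rw [e, Matrix.mul_one]

/-- A single irregular element gives all hermitian matrices with equal diagonal. -/
theorem large {X : M2} (hX : SS H X) (hne : X 0 1 ≠ 0 ∨ X 0 0 ≠ X 1 1) {Y : M2} (hY : Yᵀ = Y.map σ)
    (hd : Y 0 0 = Y 1 1) : SS H Y := by
  have h := O.root
  set P := ω + ω ^ 4 with hP
  set Q := ω ^ 2 + ω ^ 3 with hQ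
  obtain ⟨hPQ, hPQ'⟩ := PQ h
  have hherm : ∀ {Z : M2}, SS H Z → Z 1 0 = σ (Z 0 1) := fun hZ =>
    congrFun (congrFun (ss_herm (hF := hF) O hHG hZ) 0) 1
  obtain ⟨Z, hZ, hZ01⟩ : ∃ Z, SS H Z ∧ Z 0 1 ≠ 0 := by
    by_cases h01 : X 0 1 = 0
    · refine ⟨_, ss_F O hHG hX, ?_⟩
      have h10 : X 1 0 = 0 := by rw [hherm hX, h01, map_zero]
      have : X 0 0 ≠ X 1 1 := hne.resolve_left (by simp [h01])
      simp [Matrix.mul_apply, Matrix.vecMul, dotProduct, Fin.sum_univ_two, h01, h10]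
      intro e
      refine this (CharTwo.add_eq_zero.1 ?_)
      linear_combination e - (X 0 0 + X 1 1) * hPQ'
    · exact ⟨X, hX, h01⟩
  set γ0 := (1 + ω ^ 2) * Z 0 1
  have hγ0 : γ0 ≠ 0 := mul_ne_zero (one_add_omega_ne h) hZ01
  let A : Set F := {z | SS H (anti σ (γ0 * z))}
  have hadd : ∀ a ∈ A, ∀ b ∈ A, a + b ∈ A := fun a ha b hb => by
    show SS H _
    convert ss_add O hHG ha hb using 1
    ext i j
    fin_cases i <;> fin_cases j <;> simp [anti, mul_add]
  have h0 : (0 : F) ∈ A := by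
    show SS H _
    convert ss_zero O hHG using 1
    ext i j
    fin_cases i <;> fin_cases j <;> simp [anti]
  have hstep : ∀ a ∈ A, ω ^ 2 * a ∈ A := fun a ha => by
    show SS H _
    convert ss_W O hHG ha using 1
    ext i j
    fin_cases i <;> fin_cases j <;> simp [anti, sigma_omega h]
    · ring
    · rw [← pow_mul, h.pow_mod 8]; ring
  have h1 : (1 : F) ∈ A := by
    show SS H _
    convert ss_add O hHG hZ (ss_W O hHG hZ) using 1
    ext i j
    fin_cases i <;> fin_cases j <;> simp [anti, γ0, CharTwo.add_self_eq_zero, sigma_omega h]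
    · ring
    · rw [hherm hZ, ← pow_mul, h.pow_mod 8]; ring
  have heven : ∀ n : ℕ, (ω ^ 2) ^ n ∈ A := by
    intro n
    induction n with
    | zero => simpa using h1
    | succ n ih => rw [pow_succ']; exact hstep _ ih
  have hall : ∀ γ, SS H (anti σ γ) := fun γ => by
    have := span_top h hF A h0 hadd (fun i => by
      have := heven (3 * i)
      rwa [← pow_mul, h.pow_mod, show 2 * (3 * i) % 5 = i % 5 by omega, ← h.pow_mod] at this) (γ / γ0)
    simpa [A, mul_div_cancel₀ _ hγ0] using this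
  have hdiag : SS H (Y 0 0 • (1 : M2)) := by
    have hfix : σ (Y 0 0) = Y 0 0 := (congrFun (congrFun hY 0) 0).symm
    convert ss_add O hHG (ss_F O hHG (hall (Y 0 0 * (ω * Q))))
      (hall ((P ^ 2 + Q ^ 2 * ω ^ 3) * (Y 0 0 * (ω * Q)))) using 1
    ext i j
    fin_cases i <;> fin_cases j <;>
      simp [anti, hP, hQ, Matrix.mul_apply, Fin.sum_univ_two, hfix, sigma_omega h, map_add, map_mul, map_pow] <;>
      grind
  convert ss_add O hHG hdiag (hall (Y 0 1)) using 1
  ext i j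
  have := congrFun (congrFun hY 0) 1
  fin_cases i <;> fin_cases j <;> simp [anti]
  · simpa using this
  · exact hd.symm

/-- Admissible involutions are actions of conjugates of the Fourier element. -/
def FConj (H : Subgroup (GL (Fin 5) F)) (A : Matrix (Fin 2) (Fin 2) F) : Prop :=
  ∃ g ∈ cenJ H, g * g = Jg ∧ Am ((g : GL (Fin 5) F) : Matrix (Fin 5) (Fin 5) F) = A

theorem fconj_step {A A' : M2} (hA : FConj H A) {v : G5} (hv : v ∈ cenJ H)
    (e : Am (v : M5) * A = A' * Am (v : M5)) : FConj H A' := by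
  obtain ⟨g, hg, hgg, eg⟩ := hA
  refine ⟨v * g * v⁻¹, mul_mem (mul_mem hv hg) (inv_mem hv), ?_, ?_⟩
  · rw [show v * g * v⁻¹ * (v * g * v⁻¹) = v * (g * g) * v⁻¹ by group, hgg, mul_inv_eq_iff_eq_mul]
    exact Units.ext (mem_cenJ.1 hv).2.symm
  · have hvi : Am (v : M5) * Am ((v⁻¹ : G5) : M5) = 1 := by
      rw [← Am_mul (mem_cenJ.1 hv).2, Units.mul_inv, Am_one]
    have hc := (mem_cenJ.1 (mul_mem hv hg)).2
    rw [Units.val_mul, Am_mul hc, Units.val_mul, Am_mul (mem_cenJ.1 hv).2, eg, e, Matrix.mul_assoc, hvi,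
      Matrix.mul_one]

omit hHG in
theorem Am_W_pow (w : G5) (hw : w ∈ cenJ H) (ew : (w : M5) = Wm ω) (n : ℕ) :
    Am ((w ^ n : G5) : M5) = !![ω ^ n, 0; 0, ω ^ (4 * n)] := by
  induction n with
  | zero => simp [Am_one, Matrix.one_fin_two]
  | succ n ih =>
    rw [pow_succ, Units.val_mul, Am_mul (mem_cenJ.1 (pow_mem hw n)).2, ih, ew, Am_Wm O.root]
    ext i j
    fin_cases i <;> fin_cases j <;> simp [Matrix.mul_apply, Fin.sum_univ_two] <;> ring

theorem fconj_W {a b : F} (hA : FConj H !![a, b; σ b, a]) (n : ℕ) :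
    FConj H !![a, ω ^ (2 * n) * b; σ (ω ^ (2 * n) * b), a] := by
  obtain ⟨w, hw, ew⟩ := mem_W O
  refine fconj_step O hHG hA (pow_mem hw n) ?_
  have hs : σ (ω ^ n) = (ω ^ n) ^ 4 := frob_apply hF _
  have h5 : (ω ^ n) ^ 5 = 1 := by rw [← pow_mul, mul_comm, pow_mul, O.root.pow_five, one_pow]
  rw [Am_W_pow O w hw ew, pow_mul', pow_mul', map_mul, map_pow σ (ω ^ n), hs]
  generalize ω ^ n = t at h5 ⊢
  ext i j
  fin_cases i <;> fin_cases j <;> simp [Matrix.mul_apply, Fin.sum_univ_two] <;> grind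

theorem fconj_F : FConj H !![ω + ω ^ 4, ω ^ 2 + ω ^ 3; σ (ω ^ 2 + ω ^ 3), ω + ω ^ 4] := by
  obtain ⟨f, hf, ef⟩ := mem_F O
  refine ⟨f, hf, Units.ext ?_, ?_⟩
  · rw [Units.val_mul, ef, HeisFive.Fm_sq O.root]; rfl
  · rw [ef, Am_Fm O.root, sigma_Q O.root]

theorem fconj_conjF {a b : F} (hA : FConj H !![a, b; σ b, a]) :
    FConj H !![a + (b + σ b), (ω + ω ^ 4) ^ 2 * b + (ω ^ 2 + ω ^ 3) ^ 2 * σ b;
      σ ((ω + ω ^ 4) ^ 2 * b + (ω ^ 2 + ω ^ 3) ^ 2 * σ b), a + (b + σ b)] := by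
  obtain ⟨f, hf, ef⟩ := mem_F O
  refine fconj_step O hHG hA hf ?_
  rw [ef, Am_Fm O.root]
  have h1 := PQ O.root
  have h2 := two0 (F := F)
  rw [map_add, map_mul, map_mul, map_pow, map_pow, sigma_P O.root, sigma_Q O.root, frob_frob hF]
  ext i j
  fin_cases i <;> fin_cases j <;> simp [Matrix.mul_apply, Fin.sum_univ_two] <;> grind

omit hHG in
theorem fconj_unit {a b : F} (hA : FConj H !![a, b; σ b, a]) : a * a + b * σ b = 1 := by
  obtain ⟨g, hg, hgg, eg⟩ := hA
  have e : Am (g : M5) * Am (g : M5) = 1 := by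
    rw [← Am_mul (mem_cenJ.1 hg).2, ← Units.val_mul, hgg, show ((Jg : G5) : M5) = Jm from rfl, ← zel_one, Am_zel]
  rw [eg] at e
  simpa [Matrix.mul_apply, Fin.sum_univ_two] using congrFun (congrFun e 0) 0

/-- Every nontrivial unitary involution of the plane comes from a conjugate of the Fourier element. -/
theorem fconj_all {a b : F} (ha : σ a = a) (hb : b ≠ 0) (e : a * a + b * σ b = 1) :
    FConj H !![a, b; σ b, a] := by
  have h := O.root
  obtain ⟨hPQ, hPQ'⟩ := PQ h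
  have h2 := two0 (F := F)
  have h5 := h.pow_five
  have heq := h.eq
  obtain ⟨a', b', hab, ea⟩ : ∃ a' b', FConj H !![a', b'; σ b', a'] ∧ a' = a := by
    have base := fconj_F (hF := hF) O hHG
    rcases fixed_four h ha with r | r | r | r
    · refine ⟨_, _, fconj_conjF O hHG (fconj_W O hHG base 1), ?_⟩
      rw [r, map_mul, map_pow, sigma_omega h, sigma_Q h]; grind
    · exfalso
      refine hb (mul_self_eq_zero.1 ?_)
      rcases mul_eq_zero.1 (show b * σ b = 0 by rw [r] at e; linear_combination e) with e0 | e0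
      · rw [e0, mul_zero]
      · rw [(map_eq_zero _).1 e0, mul_zero]
    · exact ⟨_, _, base, r.symm⟩
    · refine ⟨_, _, fconj_conjF O hHG (fconj_W O hHG base 2), ?_⟩
      rw [r, map_mul, map_pow, sigma_omega h, sigma_Q h]; grind
  have e' := fconj_unit O hab
  subst ea
  have hb' : b' ≠ 0 := fun e0 => hb (by
    rw [e0, map_zero, mul_zero, add_zero] at e'
    have : b * σ b = 0 := by linear_combination e - e'
    rcases mul_eq_zero.1 this with e1 | e1
    · exact e1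
    · exact (map_eq_zero _).1 e1)
  obtain ⟨i, hi⟩ := exists_pow_of_norm (hF := hF) h (t := b / b') (by
    rw [map_div₀, div_mul_div_comm, div_eq_one_iff_eq (mul_ne_zero hb' ((map_ne_zero _).2 hb'))]
    linear_combination e - e')
  have := fconj_W O hHG hab (3 * i)
  rwa [h.pow_mod, show 2 * (3 * i) % 5 = i % 5 by omega, ← h.pow_mod, ← hi, div_mul_cancel₀ _ hb'] at this

variable (hsmall : ∀ X : Matrix (Fin 2) (Fin 2) F, SS H X → X 0 1 = 0 ∧ X 0 0 = X 1 1)
include hsmall hF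

theorem ss_scalar {X : M2} (hX : SS H X) : X = X 0 0 • (1 : M2) := by
  obtain ⟨h01, hd⟩ := hsmall X hX
  have h10 : X 1 0 = σ (X 0 1) := congrFun (congrFun (ss_herm (hF := hF) O hHG hX) 0) 1
  rw [h01, map_zero] at h10
  ext i j
  fin_cases i <;> fin_cases j <;> simp [h01, h10, hd]

theorem kernel_scalar {g : G5} (hg : g ∈ cenJ H) (hA : Am (g : M5) = 1) : ∃ α : F, (g : M5) = zel (α • (1 : M2)) := by
  obtain ⟨hgH, hgJ⟩ := mem_cenJ.1 hg
  obtain ⟨c, hsq, hc⟩ := kernel_shape hF hgJ (gram_mem O hHG hgH) (O.det g hgH) hA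
  obtain ⟨h01, hd⟩ := hsmall _ ⟨g * g, mul_mem hgH hgH, by rw [Units.val_mul]; exact hsq⟩
  simp only [Matrix.of_apply] at h01 hd
  have hc0 : c = 0 := by
    funext i
    rcases mul_eq_zero.1 h01 with e | e
    · rw [e, zero_mul] at hd
      rcases mul_eq_zero.1 hd.symm with e' | e'
      · fin_cases i <;> assumption
      · rw [map_eq_zero] at e'; fin_cases i <;> assumption
    · rw [map_eq_zero] at e
      rw [e, zero_mul] at hd
      rcases mul_eq_zero.1 hd with e' | e'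
      · fin_cases i <;> assumption
      · rw [map_eq_zero] at e'; fin_cases i <;> assumption
  obtain ⟨Z, eZ, -⟩ := hc hc0
  exact ⟨Z 0 0, by rw [← ss_scalar (hF := hF) O hHG hsmall ⟨g, hgH, eZ⟩]; exact eZ⟩

/-- Elements whose action is an involution. -/
theorem involution_cases {g : G5} (hg : g ∈ cenJ H) (hA : Am (g : M5) * Am (g : M5) = 1) :
    (∃ α : F, (g : M5) = zel (α • (1 : M2))) ∨ g * g = Jg := by
  by_cases h1 : Am (g : M5) = 1
  · exact Or.inl (kernel_scalar (hF := hF) O hHG hsmall hg h1)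
  right
  obtain ⟨hgH, hgJ⟩ := mem_cenJ.1 hg
  set A := Am (g : M5) with hAdef
  have hU := Am_unitary hF hgJ (gram_mem O hHG hgH)
  rw [← hAdef] at hU
  have hsym : Aᵀ = A.map σ := by
    calc Aᵀ = Aᵀ * (A.map σ * A.map σ) := by
          rw [← Matrix.map_mul, hA, Matrix.map_one _ (map_zero _) (map_one _), Matrix.mul_one]
      _ = A.map σ := by rw [← Matrix.mul_assoc, hU, Matrix.one_mul]
  have e00 := congrFun (congrFun hA 0) 0
  have e01 := congrFun (congrFun hA 0) 1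
  have e11 := congrFun (congrFun hA 1) 1
  simp [Matrix.mul_apply, Fin.sum_univ_two] at e00 e01 e11
  have s00 : A 0 0 = σ (A 0 0) := congrFun (congrFun hsym 0) 0
  have s01 : A 1 0 = σ (A 0 1) := congrFun (congrFun hsym 0) 1
  have hd : A 1 1 = A 0 0 := by
    refine (CharTwo.add_eq_zero.1 (pow_eq_zero_iff (n := 2) (by norm_num) |>.1 ?_)).symm
    linear_combination e00 + e11 + (A 0 0 * A 1 1 - A 0 1 * A 1 0 + 1 - A 0 0 * A 0 0 * 0) * two0 (F := F)
  have hb : A 0 1 ≠ 0 := by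
    intro e0
    rw [s01, e0, map_zero] at e00
    refine h1 ?_
    have ha1 : A 0 0 = 1 := CharTwo.add_eq_zero.1 (pow_eq_zero_iff (n := 2) (by norm_num) |>.1
      (show (A 0 0 + 1) ^ 2 = 0 by linear_combination e00 + (A 0 0 + 1) * two0 (F := F)))
    ext i j
    fin_cases i <;> fin_cases j <;> simp [ha1, hd, e0, s01]
  obtain ⟨k, hk, hkk, ek⟩ := fconj_all (hF := hF) O hHG s00.symm hb (by rw [← s01]; exact e00)
  have hAk : Am (k : M5) = A := by
    rw [ek]
    ext i j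
    fin_cases i <;> fin_cases j <;> simp [hd, s01]
  have hki : Am ((k⁻¹ * g : G5) : M5) = 1 := by
    rw [Units.val_mul, Am_mul (mem_cenJ.1 (inv_mem hk)).2, ← hAdef, ← hAk, ← Am_mul (mem_cenJ.1 (inv_mem hk)).2,
      Units.inv_mul, Am_one]
  obtain ⟨α, eα⟩ := kernel_scalar (hF := hF) O hHG hsmall (mul_mem (inv_mem hk) hg) hki
  set z := k⁻¹ * g with hz
  have hzz : z * z = 1 := Units.ext (by
    rw [Units.val_mul, eα, zel_mul]
    simp [CharTwo.add_self_eq_zero, ← add_smul, zel_zero])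
  have hkz : z * k = k * z := Units.ext (by
    show (z : M5) * (k : M5) = (k : M5) * (z : M5)
    rw [eα]
    exact (zel_conj (mem_cenJ.1 hk).2 (by rw [Matrix.smul_mul, Matrix.mul_smul, Matrix.one_mul, Matrix.mul_one])).symm)
  have eg : g = k * z := by rw [hz, mul_inv_cancel_left]
  rw [eg, mul_assoc, ← mul_assoc z, hkz, mul_assoc, hzz, mul_one, hkk]

/-- Isolation of the involution in the small case. -/
theorem small_isolated {u : G5} (hu : u ∈ H) (hc : Jg * (u * Jg * u⁻¹) = u * Jg * u⁻¹ * Jg) :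
    u * Jg * u⁻¹ = Jg := by
  have hJne : (Jg : G5) ≠ 1 := fun e => by
    have e' : (Jm : M5) = 1 := congrArg Units.val e
    rw [← zel_one, ← zel_zero] at e'
    exact one_ne_zero (congrFun (congrFun (zel_inj e') 0) 0)
  have hJJ : (Jg : G5) * Jg = 1 := HeisFive.Jg_mul_self
  obtain ⟨f, hf, ef⟩ := mem_F O
  have hf2 : f * f = Jg := Units.ext (by
    rw [Units.val_mul, ef, HeisFive.Fm_sq O.root]; rfl)
  have key : ∀ v ∈ H, Jg * (v * Jg * v⁻¹) = v * Jg * v⁻¹ * Jg → f * (v * Jg * v⁻¹) = v * Jg * v⁻¹ * f := by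
    intro v hv hvc
    have hm : v * Jg * v⁻¹ ∈ cenJ H := mem_cenJ.2 ⟨mul_mem (mul_mem hv O.Jg_mem) (inv_mem hv),
      congrArg Units.val hvc⟩
    have hmm : v * Jg * v⁻¹ * (v * Jg * v⁻¹) = 1 := by
      rw [show v * Jg * v⁻¹ * (v * Jg * v⁻¹) = v * (Jg * Jg) * v⁻¹ by group, hJJ, mul_one, mul_inv_cancel]
    rcases involution_cases (hF := hF) O hHG hsmall hm (by
      rw [← Am_mul (mem_cenJ.1 hm).2, ← Units.val_mul, hmm, Units.val_one, Am_one]) with ⟨α, eα⟩ | e
    · refine Units.ext ?_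
      show (f : M5) * ((v * Jg * v⁻¹ : G5) : M5) = ((v * Jg * v⁻¹ : G5) : M5) * (f : M5)
      rw [eα]
      exact zel_conj (mem_cenJ.1 hf).2 (by rw [Matrix.smul_mul, Matrix.mul_smul, Matrix.one_mul, Matrix.mul_one])
    · exact absurd (hmm.symm.trans e).symm hJne
  set J' := u * Jg * u⁻¹ with hJ'
  have e1 := key u⁻¹ (inv_mem hu) (by
    rw [inv_inv]
    calc Jg * (u⁻¹ * Jg * u) = u⁻¹ * (J' * Jg) * u := by rw [hJ']; group
      _ = u⁻¹ * (Jg * J') * u := by rw [hc]
      _ = u⁻¹ * Jg * u * Jg := by rw [hJ']; group)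
  rw [inv_inv] at e1
  set g := u * f * u⁻¹ with hg
  have hgc : g ∈ cenJ H := by
    refine mem_cenJ.2 ⟨mul_mem (mul_mem hu (mem_cenJ.1 hf).1) (inv_mem hu), congrArg Units.val
      (show Jg * g = g * Jg from ?_)⟩
    calc Jg * g = u * ((u⁻¹ * Jg * u) * f) * u⁻¹ := by rw [hg]; group
      _ = u * (f * (u⁻¹ * Jg * u)) * u⁻¹ := by rw [e1]
      _ = g * Jg := by rw [hg]; group
  have hgg : g * g = J' := by
    rw [hg, show u * f * u⁻¹ * (u * f * u⁻¹) = u * (f * f) * u⁻¹ by group, hf2]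
  have hJ'J' : J' * J' = 1 := by
    rw [hJ', show u * Jg * u⁻¹ * (u * Jg * u⁻¹) = u * (Jg * Jg) * u⁻¹ by group, hJJ, mul_one, mul_inv_cancel]
  have hJ'c : J' ∈ cenJ H := hgg ▸ mul_mem hgc hgc
  have hAJ' : Am (J' : M5) = 1 := by
    rcases involution_cases (hF := hF) O hHG hsmall hJ'c (by
      rw [← Am_mul (mem_cenJ.1 hJ'c).2, ← Units.val_mul, hJ'J', Units.val_one, Am_one]) with ⟨α, eα⟩ | e
    · rw [eα, Am_zel]
    · exact absurd (hJ'J'.symm.trans e).symm hJne
  rcases involution_cases (hF := hF) O hHG hsmall hgc (by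
    rw [← Am_mul (mem_cenJ.1 hgc).2, ← Units.val_mul, hgg, hAJ']) with ⟨α, eα⟩ | e
  · exfalso
    have hone : J' = 1 := by
      rw [← hgg]
      exact Units.ext (by rw [Units.val_mul, eα, zel_mul]; simp [CharTwo.add_self_eq_zero, zel_zero])
    refine hJne ?_
    rw [hJ', mul_inv_eq_one] at hone
    exact mul_left_cancel (hone.trans (mul_one u).symm)
  · exact hgg.symm.trans e

end Group

end CfsgLib.MaxSub.HeisFiveTwo
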