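/-
All central elements with equal diagonal generate the special unitary group together with the standard generators.
-/
import Cfsg.Agent.Lib.MaxSub.HeisFiveTwo.Dichotomy
import Cfsg.Agent.Lib.MaxSub.HeisFiveU.Spread

set_option autoImplicit false
set_option linter.unusedSectionVars false
set_option linter.style.haveILetI false
set_option maxHeartbeats 1600000

namespace CfsgLib.MaxSub.HeisFiveTwo

open Fin.NatCast
open Matrix Cfsg Cfsg.Geo CfsgLib.UnitaryTransvection
open CfsgLib.MaxSub.HeisFive (Root Xm Ym Jm En Over)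
open CfsgLib.MaxSub.HeisFiveU (ctr_move ctr_norm ctr_join ctr_zero h_eq_dot)

variable {F : Type*} [Field F]

local notation "V5" => Fin 5 → F
local notation "M5" => Matrix (Fin 5) (Fin 5) F
local notation "M2" => Matrix (Fin 2) (Fin 2) F

/-- The plane of the coordinates one and four. -/
def eA (a : Fin 2 → F) : Fin 5 → F := ![0, a 0, 0, 0, a 1]

/-- The space of the coordinates zero, two and three. -/
def eB (b : Fin 3 → F) : Fin 5 → F := ![b 0, 0, b 1, b 2, 0]

theorem decomp (v : V5) : v = eA ![v 1, v 4] + eB ![v 0, v 2, v 3] := by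
  funext i
  fin_cases i <;> simp [eA, eB]

theorem eA_add (a a' : Fin 2 → F) : eA (a + a') = eA a + eA a' := by
  funext i
  fin_cases i <;> simp [eA]

theorem eA_smul (c : F) (a : Fin 2 → F) : eA (c • a) = c • eA a := by
  funext i
  fin_cases i <;> simp [eA]

theorem eB_add (b b' : Fin 3 → F) : eB (b + b') = eB b + eB b' := by
  funext i
  fin_cases i <;> simp [eB]

theorem eB_smul (c : F) (b : Fin 3 → F) : eB (c • b) = c • eB b := by
  funext i
  fin_cases i <;> simp [eB]

variable [Fintype F] [CharP F 2] {hF : Fintype.card F = 4 ^ 2}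

local notation "hh" => Cfsg.hermForm 5 F 4
local notation "σ" => frob hF
local notation "G" => Cfsg.GU 5 F 4 ⊓ specialLinear (Fin 5) F

variable {K : Subgroup (GL (Fin 5) F)}

section Forms

variable (hF)
include hF

theorem h_A (a a' : Fin 2 → F) : hh (eA a) (eA a') = a 0 * σ (a' 0) + a 1 * σ (a' 1) := by
  rw [h_eq_dot hF]
  simp [dotProduct, eA, Fin.sum_univ_five]

theorem h_B (b b' : Fin 3 → F) : hh (eB b) (eB b') = b 0 * σ (b' 0) + b 1 * σ (b' 1) + b 2 * σ (b' 2) := by
  rw [h_eq_dot hF]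
  simp [dotProduct, eB, Fin.sum_univ_five]

theorem h_AB (a : Fin 2 → F) (b : Fin 3 → F) : hh (eA a) (eB b) = 0 := by
  rw [h_eq_dot hF]
  simp [dotProduct, eA, eB, Fin.sum_univ_five]

theorem h_BA (b : Fin 3 → F) (a : Fin 2 → F) : hh (eB b) (eA a) = 0 := by
  rw [← h_swap hF (eA a) (eB b), h_AB hF, map_zero]

theorem h_sum (a a' : Fin 2 → F) (b b' : Fin 3 → F) :
    hh (eA a + eB b) (eA a' + eB b') = hh (eA a) (eA a') + hh (eB b) (eB b') := by
  rw [h_add_left, h_add_right hF, h_add_right hF, h_AB hF, h_BA hF]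
  ring

end Forms

variable (hF) in
/-- A vector of the space all whose isotropic completions with anisotropic plane part are centres. -/
def Good (K : Subgroup (GL (Fin 5) F)) (b : Fin 3 → F) : Prop :=
  ∀ a : Fin 2 → F, hh (eA a) (eA a) ≠ 0 → hh (eA a + eB b) (eA a + eB b) = 0 → Ctr hF K (eA a + eB b)

variable (hF) in
/-- Zero or a good anisotropic vector. -/
def Nice (K : Subgroup (GL (Fin 5) F)) (b : Fin 3 → F) : Prop :=
  b = 0 ∨ (Good hF K b ∧ hh (eB b) (eB b) ≠ 0)

/-- Isotropic vectors of the plane are centres. -/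
def PlaneA (K : Subgroup (GL (Fin 5) F)) (hF : Fintype.card F = 4 ^ 2) : Prop :=
  ∀ a : Fin 2 → F, hh (eA a) (eA a) = 0 → Ctr hF K (eA a)

theorem nice_smul {b : Fin 3 → F} (hb : Nice hF K b) (l : F) : Nice hF K (l • b) := by
  by_cases hl : l = 0
  · exact Or.inl (by rw [hl, zero_smul])
  rcases hb with e | ⟨hb, hn⟩
  · exact Or.inl (by rw [e, smul_zero])
  have hn' : hh (eB (l • b)) (eB (l • b)) = l * σ l * hh (eB b) (eB b) := by
    simp only [eB_smul, h_smul_left, h_smul_right hF]; ring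
  have hl' : l * σ l ≠ 0 := mul_ne_zero hl ((map_ne_zero _).2 hl)
  refine Or.inr ⟨fun a ha hiso => ?_, by rw [hn']; exact mul_ne_zero hl' hn⟩
  have e : eA a + eB (l • b) = l • (eA (l⁻¹ • a) + eB b) := by
    simp only [eA_smul, eB_smul, smul_add, smul_smul, mul_inv_cancel₀ hl, one_smul]
  rw [e] at hiso ⊢
  rw [h_smul_left, h_smul_right hF, ← mul_assoc] at hiso
  refine (hb _ ?_ ((mul_eq_zero.1 hiso).resolve_left hl')).smul l
  simp only [eA_smul, h_smul_left, h_smul_right hF]
  exact mul_ne_zero ((map_ne_zero _).2 (inv_ne_zero hl)) (mul_ne_zero (inv_ne_zero hl) ha)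

/-- One completion suffices. -/
theorem good_of_one {ω : F} (h : Root ω) (hP : PlaneA K hF) {a₀ : Fin 2 → F} {b : Fin 3 → F}
    (h0 : hh (eA a₀) (eA a₀) ≠ 0) (hiso : hh (eA a₀ + eB b) (eA a₀ + eB b) = 0)
    (hS : Ctr hF K (eA a₀ + eB b)) : Good hF K b := by
  intro a ha ha'
  have h2 := two0 (F := F)
  have h5 := h.pow_five
  have he := h.eq
  have hw : (1 : F) + ω ≠ 0 := by
    intro e
    grind
  have hσw : σ ω = ω ^ 4 := sigma_omega h
  set k : F := (1 + ω)⁻¹ with hk
  set e₁ : Fin 2 → F := ![1, 1] with he₁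
  set e₂ : Fin 2 → F := ![k, k * ω] with he₂
  have p1 : hh (eA e₁) (eA e₁) = 0 := by
    rw [h_A hF]; simp [e₁, CharTwo.add_self_eq_zero]
  have p2 : hh (eA e₂) (eA e₂) = 0 := by
    rw [h_A hF]
    simp [e₂, map_mul, hσw]
    linear_combination (k * σ k) * h2 + (k * σ k) * h5
  have p12 : hh (eA e₁) (eA e₂) = 1 := by
    rw [h_A hF]
    simp [e₁, e₂, k, map_mul, map_inv₀, map_add, hσw]
    have : (1 : F) + ω ^ 4 ≠ 0 := fun e => hw (by linear_combination ω * e - h5)
    field_simp
  have coord : ∀ c : Fin 2 → F, eA c = (c 0 + (c 0 + c 1) * k) • eA e₁ + (c 0 + c 1) • eA e₂ := by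
    intro c
    rw [← eA_smul, ← eA_smul, ← eA_add]
    congr 1
    funext i
    fin_cases i <;> simp [e₁, e₂]
    · linear_combination -((c 0 + c 1) * k) * h2
    · have hk1 : k * (1 + ω) = 1 := inv_mul_cancel₀ hw
      linear_combination -(c 0 + c 1) * hk1 - c 0 * h2
  have nrm : ∀ x y : F, hh (x • eA e₁ + y • eA e₂) (x • eA e₁ + y • eA e₂) = x * σ y + y * σ x := by
    intro x y
    have p21 : hh (eA e₂) (eA e₁) = 1 := by rw [← h_swap hF (eA e₁) (eA e₂), p12, map_one]
    simp only [h_add_left, h_add_right hF, h_smul_left, h_smul_right hF, p1, p2, p12, p21]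
    ring
  rw [coord a, add_comm]
  rw [coord a₀, add_comm] at hS
  refine ctr_norm p1 p2 p12 (hP _ p1) (hP _ p2) (h_BA hF _ _) (h_BA hF _ _) ?_ ?_ hS
  · rw [← nrm, ← coord]; exact h0
  · rw [← nrm, ← nrm, ← coord, ← coord]
    rw [h_sum hF] at ha' hiso
    linear_combination ha' - hiso

/-- Good anisotropic vectors are closed under anisotropic sums. -/
theorem good_add {b b' : Fin 3 → F} (hb : Nice hF K b) (hb' : Nice hF K b')
    (hs : hh (eB (b + b')) (eB (b + b')) ≠ 0) : Nice hF K (b + b') := by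
  rcases hb with e | ⟨hb, hn⟩
  · rw [e, zero_add]; exact hb'
  rcases hb' with e | ⟨hb', hn'⟩
  · rw [e, add_zero]; exact Or.inr ⟨hb, hn⟩
  refine Or.inr ⟨fun a ha hiso => ?_, hs⟩
  set ν := hh (eA a) (eA a) with hν
  set N1 := hh (eB b) (eB b) with hN1
  set N2 := hh (eB b') (eB b') with hN2
  have hσν : σ ν = ν := h_swap hF _ _
  have hσ1 : σ N1 = N1 := h_swap hF _ _
  have hσ2 : σ N2 = N2 := h_swap hF _ _
  obtain ⟨sk, hsk0, hsk⟩ := exists_skew hF
  obtain ⟨k, hk⟩ := WittExtension.exists_trace (frob_ne_id hF) (frob_frob hF) (c := (-N1 + ν + N2) / ν)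
    (by rw [map_div₀, map_add, map_add, map_neg, hσν, hσ1, hσ2])
  set d := hh (eB b) (eB (b + b')) with hd
  obtain ⟨α, hα, hαd⟩ : ∃ α : F, σ α + α = (-N1 + ν + N2) / ν ∧ α * ν + d ≠ 0 := by
    by_cases e : k * ν + d = 0
    · exact ⟨k + sk, by rw [map_add]; linear_combination hk + hsk,
        fun e' => mul_ne_zero hsk0 ha (by linear_combination e' - e)⟩
    · exact ⟨k, hk, e⟩
  obtain ⟨β, hβ⟩ := exists_norm_eq hF (c := -N1 / ν - α * σ α)
    (by rw [map_sub, map_div₀, map_neg, map_mul, hσν, hσ1, frob_frob hF]; ring)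
  set p : Fin 2 → F := ![-σ (a 1), σ (a 0)] with hp
  have hap : hh (eA a) (eA p) = 0 := by
    rw [h_A hF]; simp only [p, cons_val_zero, cons_val_one, map_neg, frob_frob hF]; ring
  have hpa : hh (eA p) (eA a) = 0 := by rw [← h_swap hF (eA a) (eA p), hap, map_zero]
  have hpp : hh (eA p) (eA p) = ν := by
    rw [hν, h_A hF, h_A hF]; simp only [p, cons_val_zero, cons_val_one, map_neg, frob_frob hF]; ring
  set aw := α • a + β • p with haw
  have eaw : eA aw = α • eA a + β • eA p := by simp only [aw, eA_add, eA_smul]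
  have nw : hh (eA aw) (eA aw) = -N1 := by
    rw [eaw]
    simp only [h_add_left, h_add_right hF, h_smul_left, h_smul_right hF, hap, hpa, hpp, ← hν]
    field_simp at hβ
    linear_combination hβ
  have mw : hh (eA aw) (eA a) = α * ν := by
    rw [eaw, h_add_left, h_smul_left, h_smul_left, hpa, ← hν]; ring
  have mw' : hh (eA a) (eA aw) = σ α * ν := by
    rw [← h_swap hF (eA aw) (eA a), mw, map_mul, hσν]
  have eu : eA (a - aw) = eA a - eA aw := by
    rw [eq_sub_iff_add_eq, ← eA_add, sub_add_cancel]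
  have nu : hh (eA (a - aw)) (eA (a - aw)) = -N2 := by
    rw [eu]
    simp only [h_sub_left, h_sub_right hF, mw, mw', nw, ← hν]
    field_simp at hα
    linear_combination -hα
  have iw : hh (eA aw + eB b) (eA aw + eB b) = 0 := by rw [h_sum hF, nw, ← hN1]; ring
  have iu : hh (eA (a - aw) + eB b') (eA (a - aw) + eB b') = 0 := by rw [h_sum hF, nu, ← hN2]; ring
  have esum : eA a + eB (b + b') = (eA aw + eB b) + (eA (a - aw) + eB b') := by
    rw [eu, eB_add]; abel
  rw [esum] at hiso ⊢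
  refine ctr_join (hb _ (by rw [nw, neg_ne_zero]; exact hn) iw) (hb' _ (by rw [nu, neg_ne_zero]; exact hn') iu)
    iw iu hiso fun e => hαd ?_
  have e' := congrArg σ e
  rw [h_swap hF, map_zero, ← zero_add (hh (eA aw + eB b) (eA (a - aw) + eB b'))] at e'
  nth_rewrite 1 [← iw] at e'
  rw [← h_add_right hF, ← esum, h_sum hF, mw, ← hd] at e'
  exact e'

omit [CharP F 2] in
theorem X_pow_apply {ω : F} {g : GL (Fin 5) F} (ex : (g : M5) = Xm ω) :
    ∀ (l : ℕ) (u : V5) (i : Fin 5), (((g ^ l : GL (Fin 5) F) : M5) *ᵥ u) i = (ω ^ l) ^ (i : ℕ) * u i := by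
  intro l
  induction l with
  | zero => intro u i; simp
  | succ l ih =>
    intro u i
    rw [pow_succ, Units.val_mul, ← Matrix.mulVec_mulVec, ih, ex,
      show (Xm ω *ᵥ u) i = ω ^ (i : ℕ) * u i from Matrix.mulVec_diagonal _ _ _, pow_succ, mul_pow, mul_assoc]

omit [CharP F 2] [Fintype F] in
theorem Y_apply {g : GL (Fin 5) F} (ey : (g : M5) = Ym) (v : V5) (i : Fin 5) : ((g : M5) *ᵥ v) i = v (i - 1) := by
  rw [ey]
  simp only [Matrix.mulVec, dotProduct]
  rw [Finset.sum_eq_single (i - 1)]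
  · simp [Ym]
  · intro b _ hb
    have : i ≠ b + 1 := fun e => hb (by rw [e, add_sub_cancel_right])
    simp [Ym, this]
  · simp

/-- The central elements with equal diagonal give the transvections centred in a coordinate plane. -/
theorem plane_of_ss {ω : F} (h : Root ω) (hX : ∃ g ∈ K, (g : M5) = Xm ω) (hK : K ≤ G)
    (hS : ∀ Y : M2, Yᵀ = Y.map σ → Y 0 0 = Y 1 1 → SS K Y) : PlaneA K hF := by
  have h2 := two0 (F := F)
  have h5 := h.pow_five
  have he := h.eq
  have hσw : σ ω = ω ^ 4 := sigma_omega h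
  obtain ⟨gx, hgx, ex⟩ := hX
  have base : ∀ a b : F, a * σ a = b * σ b → Ctr hF K ![0, a, b, b, a] := by
    intro a b hab g c hc hg
    have hcc : σ c = c := (CharTwo.add_eq_zero.1 hc).symm
    obtain ⟨k, hk, ek⟩ := hS !![c * (a * σ a), c * (a * σ b); c * (b * σ a), c * (b * σ b)] (by
        ext i j
        fin_cases i <;> fin_cases j <;> simp [hcc, frob_frob hF, mul_comm]) (by simp [hab])
    have : g = k := Units.ext (by
      rw [hg, ek]
      refine Matrix.ext_of_mulVec_single fun i => ?_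
      rw [tmat_mulVec, h_eq_dot hF, single_dotProduct, one_mul, zel, Matrix.add_mulVec, Matrix.one_mulVec]
      congr 1
      funext r
      fin_cases i <;> fin_cases r <;>
        simp [En, Matrix.mul_apply, Fin.sum_univ_two, CharTwo.neg_eq, Matrix.vecMul, dotProduct] <;> ring)
    rw [this]
    exact hk
  have hXa : ∀ (l : ℕ) (v : V5), Ctr hF K v → Ctr hF K (fun i : Fin 5 => (ω ^ l) ^ (i : ℕ) * v i) := by
    intro l v hv
    have hg := pow_mem hgx l
    have := hv.conj hg (hK hg)
    rwa [show ((gx ^ l : GL (Fin 5) F) : M5) *ᵥ v = fun i : Fin 5 => (ω ^ l) ^ (i : ℕ) * v i from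
      funext (X_pow_apply ex l v)] at this
  have u0 : Ctr hF K ![0, 1, 1, 1, 1] := base 1 1 rfl
  have a1 : Ctr hF K ![0, 1, ω, ω ^ 2, ω ^ 3] := by
    convert (hXa 1 _ u0).smul (ω ^ 4) using 1
    funext i
    fin_cases i <;> simp <;> grind
  have a2 : Ctr hF K ![0, 1 + ω ^ 2, (1 + ω ^ 2) * ω ^ 2, (1 + ω ^ 2) * ω ^ 4, (1 + ω ^ 2) * ω] := by
    convert (hXa 2 _ u0).smul ((1 + ω ^ 2) * ω ^ 3) using 1
    funext i
    fin_cases i <;> simp <;> grind
  set s := ω + ω ^ 2 + ω ^ 4 with hs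
  have b0 : Ctr hF K ![0, ω ^ 2, s, s, ω] := by
    have hj := ctr_join a1 a2
      (by rw [h_eq_dot hF]; simp [dotProduct, Fin.sum_univ_five, map_pow, hσw]; grind)
      (by rw [h_eq_dot hF]; simp [dotProduct, Fin.sum_univ_five, map_pow, map_add, map_mul, hσw]; grind)
      (by rw [h_eq_dot hF]; simp [dotProduct, Fin.sum_univ_five, map_pow, map_add, map_mul, hσw]; grind)
      (by rw [h_eq_dot hF]; simp [dotProduct, Fin.sum_univ_five, map_pow, map_add, map_mul, hσw]; grind)
    convert hj using 1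
    funext i
    fin_cases i <;> simp [s] <;> grind
  have v : Ctr hF K ![0, ω, 0, 0, ω ^ 4] := by
    have hj := ctr_join u0 (b0.smul ((1 + ω) * ω ^ 3))
      (by rw [h_eq_dot hF]; simp [dotProduct, Fin.sum_univ_five]; grind)
      (by rw [h_eq_dot hF]; simp [dotProduct, Fin.sum_univ_five, s, map_pow, map_add, map_mul, hσw]; grind)
      (by rw [h_eq_dot hF]; simp [dotProduct, Fin.sum_univ_five, s, map_pow, map_add, map_mul, hσw]; grind)
      (by rw [h_eq_dot hF]; simp [dotProduct, Fin.sum_univ_five, s, map_pow, map_add, map_mul, hσw]; grind)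
    convert hj using 1
    funext i
    fin_cases i <;> simp [s] <;> grind
  have p : Ctr hF K ![0, 1, 0, 0, 1] := by
    convert hXa 4 _ v using 1
    funext i
    fin_cases i <;> simp <;> grind
  intro a ha
  rw [h_A hF] at ha
  by_cases hb : a 1 = 0
  · have : a 0 = 0 := by
      rw [hb, zero_mul, add_zero] at ha
      rcases mul_eq_zero.1 ha with e | e
      · exact e
      · exact (map_eq_zero _).1 e
    convert (ctr_zero : Ctr hF K (0 : V5)) using 1
    funext i
    fin_cases i <;> simp [eA, this, hb]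
  obtain ⟨i, hi⟩ := exists_pow_of_norm (hF := hF) h (t := a 0 / a 1) (by
    rw [map_div₀, div_mul_div_comm, div_eq_one_iff_eq (mul_ne_zero hb ((map_ne_zero _).2 hb))]
    exact CharTwo.add_eq_zero.1 ha)
  convert (hXa (3 * i) _ p).smul (a 1 / ω ^ (12 * i)) using 1
  have hw0 : ω ≠ 0 := fun e => by rw [e, zero_pow (by norm_num)] at h5; exact zero_ne_one h5
  funext k
  fin_cases k <;> simp [eA, ← pow_mul]
  · have : ω ^ (3 * i) = ω ^ i * ω ^ (12 * i) := by
      rw [← pow_add, h.pow_mod, h.pow_mod (i + 12 * i), show (i + 12 * i) % 5 = 3 * i % 5 by omega]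
    rw [this, ← hi]
    field_simp
  · rw [show 3 * i * 4 = 12 * i by ring]
    field_simp

/-- The central elements with equal diagonal give everything. -/
theorem top_of_ss {ω : F} (h : Root ω) (hX : ∃ g ∈ K, (g : M5) = Xm ω) (hY : ∃ g ∈ K, (g : M5) = Ym)
    (hK : K ≤ G) (hS : ∀ Y : M2, Yᵀ = Y.map σ → Y 0 0 = Y 1 1 → SS K Y) : G ≤ K := by
  have hP := plane_of_ss h hX hK hS
  have h2 := two0 (F := F)
  have h5 := h.pow_five
  obtain ⟨gy, hgy, ey⟩ := hY
  have hmove : ∀ (g : GL (Fin 5) F), g ∈ K → ∀ v, Ctr hF K v → Ctr hF K ((g : M5) *ᵥ v) :=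
    fun g hg v hv => hv.conj hg (hK hg)
  have hshift : ∀ (k : ℕ) (v : V5) (i : Fin 5),
      (((gy ^ k : GL (Fin 5) F) : M5) *ᵥ v) i = v (i - (k : Fin 5)) := by
    intro k
    induction k with
    | zero => intro v i; simp
    | succ k ih =>
      intro v i
      rw [pow_succ, Units.val_mul, ← Matrix.mulVec_mulVec, ih, Y_apply ey, Nat.cast_succ, sub_sub]
  have hY' : ∀ (k : ℕ) (v : V5), Ctr hF K v → Ctr hF K (fun i : Fin 5 => v (i - (k : Fin 5))) := fun k v hv => by
    rw [← funext (hshift k v)]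
    exact hmove _ (pow_mem hgy k) _ hv
  have hp : Ctr hF K (eA ![1, 1]) := hP _ (by rw [h_A hF]; simp [CharTwo.add_self_eq_zero])
  have c2 : Ctr hF K ![0, 1, 0, 1, 0] := by
    convert hY' 2 _ hp using 1
    funext i
    fin_cases i <;> simp [eA] <;> rfl
  have c3 : Ctr hF K ![0, 0, 1, 0, 1] := by
    convert hY' 3 _ hp using 1
    funext i
    fin_cases i <;> simp [eA] <;> rfl
  have c4 : Ctr hF K ![1, 0, 0, 1, 0] := by
    convert hY' 4 _ hp using 1
    funext i
    fin_cases i <;> simp [eA] <;> rfl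
  have c1 : Ctr hF K ![1, 1, 0, 0, 0] := by
    have hj := ctr_join c2 c4
      (by rw [h_eq_dot hF]; simp [dotProduct, Fin.sum_univ_five, CharTwo.add_self_eq_zero])
      (by rw [h_eq_dot hF]; simp [dotProduct, Fin.sum_univ_five, CharTwo.add_self_eq_zero])
      (by rw [h_eq_dot hF]; simp [dotProduct, Fin.sum_univ_five, CharTwo.add_self_eq_zero])
      (by rw [h_eq_dot hF]; simp [dotProduct, Fin.sum_univ_five])
    convert hj using 1
    funext i
    fin_cases i <;> simp [CharTwo.add_self_eq_zero]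
  have orbit : ∀ (a : Fin 2 → F) (b : Fin 3 → F), Ctr hF K (eA a + eB b) → hh (eA a) (eA a) = 1 →
      hh (eB b) (eB b) = 1 → Nice hF K b := by
    intro a b hc ha hb
    refine Or.inr ⟨good_of_one h hP (a₀ := a) (by rw [ha]; exact one_ne_zero) ?_ hc, by rw [hb]; exact one_ne_zero⟩
    rw [h_sum hF, ha, hb, CharTwo.add_self_eq_zero]
  have N0 : Nice hF K ![1, 0, 0] := orbit ![1, 0] _ (by
      convert c1 using 1
      funext i; fin_cases i <;> simp [eA, eB]) (by rw [h_A hF]; simp) (by rw [h_B hF]; simp)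
  have N1 : Nice hF K ![0, 1, 0] := orbit ![0, 1] _ (by
      convert c3 using 1
      funext i; fin_cases i <;> simp [eA, eB]) (by rw [h_A hF]; simp) (by rw [h_B hF]; simp)
  have N2 : Nice hF K ![0, 0, 1] := orbit ![1, 0] _ (by
      convert c2 using 1
      funext i; fin_cases i <;> simp [eA, eB]) (by rw [h_A hF]; simp) (by rw [h_B hF]; simp)
  have hN : ∀ x y z : F, hh (eB ![x, y, z]) (eB ![x, y, z]) = x * σ x + y * σ y + z * σ z := fun x y z => by
    rw [h_B hF]; simp
  have hadd : ∀ x y z x' y' z' : F, Nice hF K ![x, y, z] → Nice hF K ![x', y', z'] →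
      (x + x') * σ (x + x') + (y + y') * σ (y + y') + (z + z') * σ (z + z') ≠ 0 →
      Nice hF K ![x + x', y + y', z + z'] := fun x y z x' y' z' hb hb' hn => by
    have e : ![x + x', y + y', z + z'] = ![x, y, z] + ![x', y', z'] := by
      funext i; fin_cases i <;> simp
    rw [e]
    exact good_add hb hb' (by rw [← e, hN]; exact hn)
  have hx : ∀ x, Nice hF K ![x, 0, 0] := fun x => by simpa using nice_smul N0 x
  have hy : ∀ y, Nice hF K ![0, y, 0] := fun y => by simpa using nice_smul N1 y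
  have hz : ∀ z, Nice hF K ![0, 0, z] := fun z => by simpa using nice_smul N2 z
  have pxy : ∀ x y, x * σ x + y * σ y ≠ 0 → Nice hF K ![x, y, 0] := fun x y hn => by
    simpa using hadd x 0 0 0 y 0 (hx x) (hy y) (by simpa using hn)
  have pyz : ∀ y z, y * σ y + z * σ z ≠ 0 → Nice hF K ![0, y, z] := fun y z hn => by
    simpa using hadd 0 y 0 0 0 z (hy y) (hz z) (by simpa using hn)
  have pxz : ∀ x z, x * σ x + z * σ z ≠ 0 → Nice hF K ![x, 0, z] := fun x z hn => by
    simpa using hadd x 0 0 0 0 z (hx x) (hz z) (by simpa using hn)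
  have all : ∀ x y z : F, x * σ x + y * σ y + z * σ z ≠ 0 → Nice hF K ![x, y, z] := by
    intro x y z hn
    by_cases k1 : x * σ x + y * σ y = 0
    · by_cases k2 : x * σ x + z * σ z = 0
      · set P := ω + ω ^ 4 with hPdef
        set Q := ω ^ 2 + ω ^ 3 with hQdef
        obtain ⟨hPQ, hPQ'⟩ := PQ h
        have hP0 : P ≠ 0 := left_ne_zero_of_mul (hPQ'.trans_ne one_ne_zero)
        have hQ0 : Q ≠ 0 := right_ne_zero_of_mul (hPQ'.trans_ne one_ne_zero)
        have hn0 : x * σ x ≠ 0 := fun e => hn (by linear_combination k1 + k2 - e)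
        have ey' : y * σ y = x * σ x := (CharTwo.add_eq_zero.1 k1).symm
        have ez : z * σ z = x * σ x := (CharTwo.add_eq_zero.1 k2).symm
        have q1 := pxy x (P * y) (by
          rw [map_mul, show P = ω + ω ^ 4 from hPdef, sigma_P h, ← hPdef]
          intro e
          refine mul_ne_zero (pow_ne_zero 2 hQ0) hn0 ?_
          linear_combination e - P ^ 2 * ey' + (x * σ x) * (Q + 1 - P) * hPQ - P * (x * σ x) * h2)
        have q2 := pyz (Q * y) z (by
          rw [map_mul, show Q = ω ^ 2 + ω ^ 3 from hQdef, sigma_Q h, ← hQdef]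
          intro e
          refine mul_ne_zero (pow_ne_zero 2 hP0) hn0 ?_
          linear_combination e - Q ^ 2 * ey' - ez + (x * σ x) * (P + 1 - Q) * hPQ - Q * (x * σ x) * h2)
        have := hadd x (P * y) 0 0 (Q * y) z q1 q2 (by
          rw [← add_mul, hPQ, one_mul, add_zero, zero_add]; exact hn)
        rwa [← add_mul, hPQ, one_mul, add_zero, zero_add] at this
      · simpa using hadd x 0 z 0 y 0 (pxz x z k2) (hy y) (by simpa using hn)
    · simpa using hadd x y 0 0 0 z (pxy x y k1) (hz z) (by simpa using hn)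
  refine SU_le_of_ctr (hF := hF) (by norm_num) fun v hv => ?_
  have easy : ∀ u : V5, hh u u = 0 → u 1 * σ (u 1) + u 4 * σ (u 4) ≠ 0 → Ctr hF K u := by
    intro u hu hn
    rw [decomp u] at hu ⊢
    have ha : hh (eA ![u 1, u 4]) (eA ![u 1, u 4]) ≠ 0 := by rw [h_A hF]; simpa using hn
    rw [h_sum hF] at hu
    have hb : hh (eB ![u 0, u 2, u 3]) (eB ![u 0, u 2, u 3]) ≠ 0 := fun e => ha (by linear_combination hu - e)
    rcases all (u 0) (u 2) (u 3) (by rw [← hN]; exact hb) with e | ⟨hg, -⟩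
    · exact absurd (by rw [e, h_B hF]; simp) hb
    · exact hg _ ha (by rw [h_sum hF]; exact hu)
  by_contra hbad
  have hz0 : ∀ k : ℕ, v (1 - (k : Fin 5)) * σ (v (1 - (k : Fin 5))) +
      v (4 - (k : Fin 5)) * σ (v (4 - (k : Fin 5))) = 0 := by
    intro k
    by_contra hne
    have hg := pow_mem hgy k
    have := hmove _ (inv_mem hg) _ (easy (((gy ^ k : GL (Fin 5) F) : M5) *ᵥ v)
      (by rw [G_isometry (hK hg)]; exact hv) (by simp only [hshift]; exact hne))
    rw [Matrix.mulVec_mulVec, Units.inv_mul, Matrix.one_mulVec] at this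
    exact hbad this
  have e0 := CharTwo.add_eq_zero.1 (hz0 0)
  have e1 := CharTwo.add_eq_zero.1 (hz0 1)
  have e2 := CharTwo.add_eq_zero.1 (hz0 2)
  have e3 := CharTwo.add_eq_zero.1 (hz0 3)
  have e4 := CharTwo.add_eq_zero.1 (hz0 4)
  rw [h_eq_dot hF, dotProduct, Fin.sum_univ_five] at hv
  simp at e0 e1 e2 e3 e4
  have hn : v 0 * σ (v 0) = 0 := by grind
  refine hbad ?_
  have this : v = 0 := by
    have key : ∀ x : F, x * σ x = 0 → x = 0 := fun x e => (mul_eq_zero.1 e).elim id (map_eq_zero _).1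
    funext i
    refine key _ ?_
    fin_cases i <;> simp <;> grind
  rw [this]
  exact ctr_zero

end CfsgLib.MaxSub.HeisFiveTwo
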