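/-
Normalisers of groups of symplectic type of order 125 are maximal in SU(5, q): all characteristics.
-/
import Cfsg.Agent.Lib.MaxSub.HeisFiveTwo.Spread
import Cfsg.Agent.Lib.MaxSub.HeisFiveU.Main

set_option autoImplicit false
set_option linter.unusedSectionVars false
set_option linter.style.haveILetI false
set_option maxHeartbeats 800000

namespace CfsgLib.MaxSub.HeisFiveTwo

open Matrix Cfsg Cfsg.Geo CfsgLib.UnitaryTransvection
open CfsgLib.MaxSub.HeisFive (Root Xm Ym Over Jg)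

variable {F : Type*} [Field F] [Fintype F] {q : ℕ}

local notation "M5" => Matrix (Fin 5) (Fin 5) F

/-- A proper unitary overgroup of the standard normaliser isolates the involution, four elements. -/
theorem involution_isolated [CharP F 2] (hF : Fintype.card F = 4 ^ 2) {ω : F} {H : Subgroup (GL (Fin 5) F)}
    (O : Over ω H) (hHG : H ≤ Cfsg.GU 5 F 4 ⊓ specialLinear (Fin 5) F)
    (hproper : ¬ Cfsg.GU 5 F 4 ⊓ specialLinear (Fin 5) F ≤ H)
    {u : GL (Fin 5) F} (hu : u ∈ H) (hc : Jg * (u * Jg * u⁻¹) = u * Jg * u⁻¹ * Jg) : u * Jg * u⁻¹ = Jg := by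
  by_cases hs : ∀ X : Matrix (Fin 2) (Fin 2) F, SS H X → X 0 1 = 0 ∧ X 0 0 = X 1 1
  · exact small_isolated (hF := hF) O hHG hs hu hc
  · push Not at hs
    obtain ⟨X, hX, hne⟩ := hs
    exact absurd (top_of_ss (hF := hF) O.root O.hX O.hY hHG fun Y hY hd =>
      large (hF := hF) O hHG hX (by tauto) hY hd) hproper

/-- Item (7). -/
theorem su_symplectic_five_maximal (hF : Fintype.card F = q ^ 2) (p : ℕ)
    (R : Subgroup (Matrix.GeneralLinearGroup (Fin 5) F)) (hpp : p.Prime) (hchar : CharP F p)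
    (hq' : (q = p ∧ p % 5 = 4) ∨ (q = p ^ 2 ∧ (p % 5 = 2 ∨ p % 5 = 3)))
    (hsym : Cfsg.Geo.IsSymplecticTypeGroup 5 R)
    (habs : Cfsg.Geo.ActsAbsolutelyIrreducibly (Cfsg.Geo.matrixSet R))
    (hRs : R ≤ Cfsg.Geo.similarityGroup (Cfsg.hermForm 5 F q)) (h125 : Nat.card R = 125)
    (hZ : Nat.card (Subgroup.center R) = 5) :
    Cfsg.Geo.IsMaximalIn (Cfsg.GU 5 F q ⊓ specialLinear (Fin 5) F)
      (subgroupNormalizer R ⊓ (Cfsg.GU 5 F q ⊓ specialLinear (Fin 5) F)) := by
  by_cases h2p : p = 2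
  swap
  · exact HeisFiveU.su_symplectic_five_maximal_odd hF p R hpp hchar h2p hq' hsym habs hRs h125 hZ
  subst h2p
  obtain rfl : q = 4 := by
    rcases hq' with ⟨-, e⟩ | ⟨e, -⟩
    · omega
    · omega
  have h5 : (5 : F) ≠ 0 := by
    have h : ((5 : ℕ) : F) ≠ 0 := fun e => by
      have := (CharP.cast_eq_zero_iff F 2 5).1 e
      omega
    exact_mod_cast h
  obtain ⟨g, ω, x, y, h, ex, ey, hg, rfl⟩ :=
    HeisFiveU.exists_std_unitary hF (by norm_num) h5 hsym habs hRs h125 hZ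
  exact HeisFiveU.maximal_conj hg (HeisFiveU.std_maximal_of hF (by norm_num) h
    (fun _ O hMS hfull _ hu hc => involution_isolated hF O hMS hfull hu hc) ex ey)

end CfsgLib.MaxSub.HeisFiveTwo
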